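import Cfsg.Agent.H153.Dl.A24.Q0
import Cfsg.Agent.H153.Dl.A24.Q1
import Cfsg.Agent.H153.Dl.A24.Q2
import Cfsg.Agent.H153.Dl.A24.Q3
import Cfsg.Agent.H153.Dl.A24.Q4
import Cfsg.Agent.H153.Dl.A24.Q5
import Cfsg.Agent.H153.Dl.A24.Q6

/-!
# An element of order 16 in `Fi24` : the data (helper153)

Generated data and kernel checks.
-/

set_option autoImplicit false
set_option maxRecDepth 100000
set_option Elab.async false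

namespace Cfsg.Agent.H153.Dl.A24

open Cfsg Cfsg.Agent.Lib.PermNetPt Cfsg.Agent.H153.Dl Cfsg.Agent.H153.Dl.PR
open Cfsg.Spor.Fi24 (Gen)

/-- The data. -/
noncomputable def D : R24.Data where
  xw := xw
  c := (.a : Gen)
  u := u
  p0 := 1554
  I := [1, 2, 6]
  Z := [3]
  Gs := [(false, 3, q0),
    (true, 1, q1),
    (true, 1, q2),
    (true, 1, q3),
    (true, 1, q4),
    (true, 1, q5),
    (true, 1, q6),
    (true, 1, q7),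
    (true, 1, q8),
    (true, 1, q9),
    (true, 1, q10),
    (true, 1, q11),
    (true, 1, q12),
    (true, 1, q13),
    (true, 1, q14),
    (true, 1, q15),
    (true, 1, q16),
    (true, 1, q17),
    (true, 1, q18),
    (true, 1, q19),
    (true, 1, q20),
    (true, 1, q21),
    (true, 1, q22),
    (true, 1, q23),
    (true, 1, q24),
    (true, 1, q25),
    (true, 1, q26),
    (true, 1, q27),
    (true, 1, q28),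
    (true, 1, q29),
    (true, 1, q30),
    (true, 1, q31),
    (true, 1, q32),
    (true, 1, q33),
    (true, 1, q34),
    (true, 1, q35),
    (true, 1, q36),
    (true, 1, q37),
    (true, 1, q38),
    (true, 1, q39),
    (true, 1, q40),
    (true, 1, q41),
    (true, 1, q42),
    (true, 1, q43),
    (true, 1, q44),
    (true, 1, q45),
    (true, 1, q46),
    (true, 1, q47),
    (true, 1, q48),
    (true, 1, q49),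
    (true, 1, q50),
    (true, 1, q51),
    (true, 1, q52),
    (true, 1, q53),
    (true, 1, q54),
    (true, 1, q55),
    (true, 1, q56),
    (true, 1, q57),
    (true, 1, q58),
    (true, 1, q59),
    (true, 1, q60),
    (true, 1, q61),
    (true, 1, q62),
    (true, 1, q63),
    (true, 1, q64),
    (true, 1, q65),
    (true, 1, q66),
    (true, 1, q67),
    (true, 1, q68),
    (true, 1, q69),
    (true, 1, q70),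
    (true, 1, q71),
    (true, 1, q72),
    (true, 1, q73),
    (true, 1, q74),
    (true, 1, q75),
    (true, 1, q76),
    (true, 1, q77),
    (true, 1, q78),
    (true, 1, q79),
    (true, 1, q80),
    (true, 1, q81),
    (true, 1, q82),
    (true, 1, q83),
    (true, 1, q84),
    (true, 1, q85),
    (true, 1, q86),
    (true, 1, q87),
    (true, 1, q88),
    (true, 1, q89),
    (true, 1, q90),
    (true, 1, q91),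
    (true, 1, q92),
    (true, 1, q93),
    (true, 1, q94),
    (true, 1, q95),
    (true, 1, q96),
    (true, 1, q97),
    (true, 1, q98),
    (true, 1, q99),
    (true, 1, q100),
    (true, 1, q101),
    (true, 1, q102),
    (true, 1, q103),
    (true, 1, q104),
    (true, 1, q105),
    (true, 1, q106),
    (true, 1, q107),
    (true, 1, q108),
    (true, 1, q109),
    (true, 1, q110),
    (true, 1, q111),
    (true, 1, q112),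
    (true, 1, q113),
    (true, 1, q114),
    (true, 1, q115),
    (true, 1, q116),
    (true, 1, q117),
    (true, 1, q118),
    (true, 2, q119),
    (true, 2, q120),
    (true, 2, q121),
    (true, 2, q122),
    (true, 2, q123),
    (true, 2, q124),
    (true, 2, q125),
    (true, 2, q126),
    (true, 2, q127),
    (true, 2, q128),
    (true, 2, q129),
    (true, 2, q130),
    (true, 2, q131),
    (true, 6, q132),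
    (true, 6, q133)]
  good := [1554]
  ws := [[rep 1 xw], [rep 2 xw], [rep 4 xw], [rep 8 xw], [y0a], [y1a]]
  ls := [[2, 2, 0, 2, 2, 2, 0, 2, 2, 2, 2, 2, 0, 1, 0, 1, 1, 0, 1, 1, 1, 0, 1, 1, 0, 1, 1, 1],
    [2, 2, 0, 2, 2, 2, 0, 2, 2, 2, 2, 2, 0, 1, 0, 1, 1, 0, 1, 1, 1, 0, 1, 1, 0, 1, 1, 1],
    [0, 2, 0, 2, 2, 0, 2, 0, 2, 2, 0, 2, 0, 2, 2, 2, 2, 0, 2, 2, 2, 2, 2, 0, 2, 0, 2, 2, 2],
    [1, 1, 1, 1, 0, 1, 1, 0, 1, 1, 0, 1, 0, 1, 1, 1, 1, 0, 1, 1, 1, 1, 1, 0, 1, 0, 1, 1, 1],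
    [1, 1, 1, 1, 1, 0, 1, 1, 1, 0, 1, 1, 1, 0, 1, 1, 0, 1, 0, 1, 0, 1, 1, 1],
    [0, 2, 2, 2, 0, 2, 0, 2, 0, 2, 0, 2, 2, 0, 2, 2, 2],
    [2, 2, 2, 0, 1, 0, 1, 1, 1, 0, 2, 2, 2, 0, 2, 2, 2, 0, 1, 0, 1, 0, 1, 1, 1],
    [1, 0, 1, 0, 1, 1, 1, 1, 0, 2, 2, 2, 0, 2, 0, 2, 2, 2, 0, 2, 0, 2, 0, 2, 0, 2, 2, 2],
    [1, 1, 1, 1, 1, 0, 1, 0, 1, 1, 1, 0, 1, 0, 1, 0, 1, 0, 1, 1, 1, 0, 1, 0, 1, 1, 1],
    [1, 0, 1, 1, 1, 1, 0, 2, 2, 0, 2, 2, 2, 0, 2, 2, 0, 2, 0, 2, 2, 0, 2, 0, 2, 2, 2, 2],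
    [0, 2, 2, 2, 2, 0, 2, 2, 0, 2, 0, 2, 2, 0, 2, 2, 0, 2, 0, 2, 2, 0, 2, 2, 2],
    [2, 2, 0, 2, 0, 2, 2, 0, 2, 2, 0, 2, 2, 2, 2, 0, 2, 0, 2, 2, 0, 2, 2, 2, 0, 1, 0, 1, 1, 1],
    [0, 1, 1, 1, 1, 0, 2, 2, 0, 2, 2, 2, 0, 2, 2, 0, 2, 0, 2, 2, 0, 2, 0, 2, 2, 2, 2]]

theorem hu : chkPt (R24.nw u) (R24.pn D.c) D.p0 = true := by decide +kernel

theorem hI : (D.I.all fun j => cf (R24.nw D.xw.reverse) (R24.nw D.u) (R24.nw [D.c]) false j D.p0) = true := by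
  decide +kernel

theorem hZ : (D.Z.all fun j => cf (R24.nw D.xw.reverse) (R24.nw D.u) (R24.nw [D.c]) true j D.p0) = true := by
  decide +kernel

theorem gen : R24.genB (D.u ++ D.c :: D.u.reverse) D.xw D.p0 D.ls = true := by decide +kernel

theorem comm_y0a : R24.chkEq (y0a ++ xw) (xw ++ y0a) = true := by decide +kernel

theorem comm_y1a : R24.chkEq (y1a ++ xw) (xw ++ y1a) = true := by decide +kernel

theorem covering : Nat.beq (Nat.land R24.U (R24.cov D.ws (mskG D.good D.Gs))) R24.U = true := by decide +kernel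

theorem hit : ∀ a ∈ D.Gs, (a.1 = true → a.2.1 ∈ D.I) ∧ (a.1 = false → a.2.1 ∈ D.Z) := by
  have key : ∀ (b : Bool) (j : ℕ) (q : List (ℕ × ℕ)), (Bool.rec (D.Z.contains j) (D.I.contains j) b : Bool) = true →
    ((b, j, q).1 = true → (b, j, q).2.1 ∈ D.I) ∧ ((b, j, q).1 = false → (b, j, q).2.1 ∈ D.Z) := by
    intro b j q h
    refine ⟨?_, ?_⟩
    · rintro rfl
      exact List.contains_iff_mem.1 h
    · rintro rfl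
      exact List.contains_iff_mem.1 h
  exact (List.forall_mem_cons.2 ⟨key _ _ _ rfl, (List.forall_mem_cons.2 ⟨key _ _ _ rfl, (List.forall_mem_cons.2 ⟨key _ _ _ rfl, (List.forall_mem_cons.2 ⟨key _ _ _ rfl, (List.forall_mem_cons.2 ⟨key _ _ _ rfl, (List.forall_mem_cons.2 ⟨key _ _ _ rfl, (List.forall_mem_cons.2 ⟨key _ _ _ rfl, (List.forall_mem_cons.2 ⟨key _ _ _ rfl, (List.forall_mem_cons.2 ⟨key _ _ _ rfl, (List.forall_mem_cons.2 ⟨key _ _ _ rfl, (List.forall_mem_cons.2 ⟨key _ _ _ rfl, (List.forall_mem_cons.2 ⟨key _ _ _ rfl, (List.forall_mem_cons.2 ⟨key _ _ _ rfl, (List.forall_mem_cons.2 ⟨key _ _ _ rfl, (List.forall_mem_cons.2 ⟨key _ _ _ rfl, (List.forall_mem_cons.2 ⟨key _ _ _ rfl, (List.forall_mem_cons.2 ⟨key _ _ _ rfl, (List.forall_mem_cons.2 ⟨key _ _ _ rfl, (List.forall_mem_cons.2 ⟨key _ _ _ rfl, (List.forall_mem_cons.2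 ⟨key _ _ _ rfl, (List.forall_mem_cons.2 ⟨key _ _ _ rfl, (List.forall_mem_cons.2 ⟨key _ _ _ rfl, (List.forall_mem_cons.2 ⟨key _ _ _ rfl, (List.forall_mem_cons.2 ⟨key _ _ _ rfl, (List.forall_mem_cons.2 ⟨key _ _ _ rfl, (List.forall_mem_cons.2 ⟨key _ _ _ rfl, (List.forall_mem_cons.2 ⟨key _ _ _ rfl, (List.forall_mem_cons.2 ⟨key _ _ _ rfl, (List.forall_mem_cons.2 ⟨key _ _ _ rfl, (List.forall_mem_cons.2 ⟨key _ _ _ rfl, (List.forall_mem_cons.2 ⟨key _ _ _ rfl, (List.forall_mem_cons.2 ⟨key _ _ _ rfl, (List.forall_mem_cons.2 ⟨key _ _ _ rfl, (List.forall_mem_cons.2 ⟨key _ _ _ rfl, (List.forall_mem_cons.2 ⟨key _ _ _ rfl, (List.forall_mem_cons.2 ⟨key _ _ _ rfl, (List.forall_mem_cons.2 ⟨key _ _ _ rfl, (List.forall_mem_cons.2 ⟨key _ _ _ rfl, (List.forall_mem_cons.2 ⟨key _ _ _ rfl, (List.forall_mem_cons.2 ⟨key _ _ _ rfl, (List.forall_mem_cons.2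 ⟨key _ _ _ rfl, (List.forall_mem_cons.2 ⟨key _ _ _ rfl, (List.forall_mem_cons.2 ⟨key _ _ _ rfl, (List.forall_mem_cons.2 ⟨key _ _ _ rfl, (List.forall_mem_cons.2 ⟨key _ _ _ rfl, (List.forall_mem_cons.2 ⟨key _ _ _ rfl, (List.forall_mem_cons.2 ⟨key _ _ _ rfl, (List.forall_mem_cons.2 ⟨key _ _ _ rfl, (List.forall_mem_cons.2 ⟨key _ _ _ rfl, (List.forall_mem_cons.2 ⟨key _ _ _ rfl, (List.forall_mem_cons.2 ⟨key _ _ _ rfl, (List.forall_mem_cons.2 ⟨key _ _ _ rfl, (List.forall_mem_cons.2 ⟨key _ _ _ rfl, (List.forall_mem_cons.2 ⟨key _ _ _ rfl, (List.forall_mem_cons.2 ⟨key _ _ _ rfl, (List.forall_mem_cons.2 ⟨key _ _ _ rfl, (List.forall_mem_cons.2 ⟨key _ _ _ rfl, (List.forall_mem_cons.2 ⟨key _ _ _ rfl, (List.forall_mem_cons.2 ⟨key _ _ _ rfl, (List.forall_mem_cons.2 ⟨key _ _ _ rfl, (List.forall_mem_cons.2 ⟨key _ _ _ rfl, (List.forall_mem_cons.2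 ⟨key _ _ _ rfl, (List.forall_mem_cons.2 ⟨key _ _ _ rfl, (List.forall_mem_cons.2 ⟨key _ _ _ rfl, (List.forall_mem_cons.2 ⟨key _ _ _ rfl, (List.forall_mem_cons.2 ⟨key _ _ _ rfl, (List.forall_mem_cons.2 ⟨key _ _ _ rfl, (List.forall_mem_cons.2 ⟨key _ _ _ rfl, (List.forall_mem_cons.2 ⟨key _ _ _ rfl, (List.forall_mem_cons.2 ⟨key _ _ _ rfl, (List.forall_mem_cons.2 ⟨key _ _ _ rfl, (List.forall_mem_cons.2 ⟨key _ _ _ rfl, (List.forall_mem_cons.2 ⟨key _ _ _ rfl, (List.forall_mem_cons.2 ⟨key _ _ _ rfl, (List.forall_mem_cons.2 ⟨key _ _ _ rfl, (List.forall_mem_cons.2 ⟨key _ _ _ rfl, (List.forall_mem_cons.2 ⟨key _ _ _ rfl, (List.forall_mem_cons.2 ⟨key _ _ _ rfl, (List.forall_mem_cons.2 ⟨key _ _ _ rfl, (List.forall_mem_cons.2 ⟨key _ _ _ rfl, (List.forall_mem_cons.2 ⟨key _ _ _ rfl, (List.forall_mem_cons.2 ⟨key _ _ _ rfl, (List.forall_mem_cons.2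 ⟨key _ _ _ rfl, (List.forall_mem_cons.2 ⟨key _ _ _ rfl, (List.forall_mem_cons.2 ⟨key _ _ _ rfl, (List.forall_mem_cons.2 ⟨key _ _ _ rfl, (List.forall_mem_cons.2 ⟨key _ _ _ rfl, (List.forall_mem_cons.2 ⟨key _ _ _ rfl, (List.forall_mem_cons.2 ⟨key _ _ _ rfl, (List.forall_mem_cons.2 ⟨key _ _ _ rfl, (List.forall_mem_cons.2 ⟨key _ _ _ rfl, (List.forall_mem_cons.2 ⟨key _ _ _ rfl, (List.forall_mem_cons.2 ⟨key _ _ _ rfl, (List.forall_mem_cons.2 ⟨key _ _ _ rfl, (List.forall_mem_cons.2 ⟨key _ _ _ rfl, (List.forall_mem_cons.2 ⟨key _ _ _ rfl, (List.forall_mem_cons.2 ⟨key _ _ _ rfl, (List.forall_mem_cons.2 ⟨key _ _ _ rfl, (List.forall_mem_cons.2 ⟨key _ _ _ rfl, (List.forall_mem_cons.2 ⟨key _ _ _ rfl, (List.forall_mem_cons.2 ⟨key _ _ _ rfl, (List.forall_mem_cons.2 ⟨key _ _ _ rfl, (List.forall_mem_cons.2 ⟨key _ _ _ rfl, (List.forall_mem_cons.2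 ⟨key _ _ _ rfl, (List.forall_mem_cons.2 ⟨key _ _ _ rfl, (List.forall_mem_cons.2 ⟨key _ _ _ rfl, (List.forall_mem_cons.2 ⟨key _ _ _ rfl, (List.forall_mem_cons.2 ⟨key _ _ _ rfl, (List.forall_mem_cons.2 ⟨key _ _ _ rfl, (List.forall_mem_cons.2 ⟨key _ _ _ rfl, (List.forall_mem_cons.2 ⟨key _ _ _ rfl, (List.forall_mem_cons.2 ⟨key _ _ _ rfl, (List.forall_mem_cons.2 ⟨key _ _ _ rfl, (List.forall_mem_cons.2 ⟨key _ _ _ rfl, (List.forall_mem_cons.2 ⟨key _ _ _ rfl, (List.forall_mem_cons.2 ⟨key _ _ _ rfl, (List.forall_mem_cons.2 ⟨key _ _ _ rfl, (List.forall_mem_cons.2 ⟨key _ _ _ rfl, (List.forall_mem_cons.2 ⟨key _ _ _ rfl, (List.forall_mem_cons.2 ⟨key _ _ _ rfl, (List.forall_mem_cons.2 ⟨key _ _ _ rfl, (List.forall_mem_cons.2 ⟨key _ _ _ rfl, (List.forall_mem_cons.2 ⟨key _ _ _ rfl, (List.forall_mem_cons.2 ⟨key _ _ _ rfl, (List.forall_mem_cons.2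 ⟨key _ _ _ rfl, (List.forall_mem_cons.2 ⟨key _ _ _ rfl, (List.forall_mem_cons.2 ⟨key _ _ _ rfl, (List.forall_mem_cons.2 ⟨key _ _ _ rfl, (List.forall_mem_cons.2 ⟨key _ _ _ rfl, (List.forall_mem_cons.2 ⟨key _ _ _ rfl, (List.forall_mem_cons.2 ⟨key _ _ _ rfl, (List.forall_mem_cons.2 ⟨key _ _ _ rfl, (List.forall_mem_cons.2 ⟨key _ _ _ rfl, (List.forall_mem_cons.2 ⟨key _ _ _ rfl, (fun _ h => absurd h (by simp))⟩)⟩)⟩)⟩)⟩)⟩)⟩)⟩)⟩)⟩)⟩)⟩)⟩)⟩)⟩)⟩)⟩)⟩)⟩)⟩)⟩)⟩)⟩)⟩)⟩)⟩)⟩)⟩)⟩)⟩)⟩)⟩)⟩)⟩)⟩)⟩)⟩)⟩)⟩)⟩)⟩)⟩)⟩)⟩)⟩)⟩)⟩)⟩)⟩)⟩)⟩)⟩)⟩)⟩)⟩)⟩)⟩)⟩)⟩)⟩)⟩)⟩)⟩)⟩)⟩)⟩)⟩)⟩)⟩)⟩)⟩)⟩)⟩)⟩)⟩)⟩)⟩)⟩)⟩)⟩)⟩)⟩)⟩)⟩)⟩)⟩)⟩)⟩)⟩)⟩)⟩)⟩)⟩)⟩)⟩)⟩)⟩)⟩)⟩)⟩)⟩)⟩)⟩)⟩)⟩)⟩)⟩)⟩)⟩)⟩)⟩)⟩)⟩)⟩)⟩)⟩)⟩)⟩)⟩)⟩)⟩)⟩)⟩)⟩)⟩)⟩)⟩)⟩)⟩)⟩)⟩)⟩)⟩)⟩)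

theorem cert : ∀ a ∈ D.Gs, R24.chkL (R24.nw D.xw.reverse) a.1 a.2.1 a.2.2 = true :=
  (List.forall_mem_cons.2 ⟨c0, (List.forall_mem_cons.2 ⟨c1, (List.forall_mem_cons.2 ⟨c2, (List.forall_mem_cons.2 ⟨c3, (List.forall_mem_cons.2 ⟨c4, (List.forall_mem_cons.2 ⟨c5, (List.forall_mem_cons.2 ⟨c6, (List.forall_mem_cons.2 ⟨c7, (List.forall_mem_cons.2 ⟨c8, (List.forall_mem_cons.2 ⟨c9, (List.forall_mem_cons.2 ⟨c10, (List.forall_mem_cons.2 ⟨c11, (List.forall_mem_cons.2 ⟨c12, (List.forall_mem_cons.2 ⟨c13, (List.forall_mem_cons.2 ⟨c14, (List.forall_mem_cons.2 ⟨c15, (List.forall_mem_cons.2 ⟨c16, (List.forall_mem_cons.2 ⟨c17, (List.forall_mem_cons.2 ⟨c18, (List.forall_mem_cons.2 ⟨c19, (List.forall_mem_cons.2 ⟨c20, (List.forall_mem_cons.2 ⟨c21, (List.forall_mem_cons.2 ⟨c22, (List.forall_mem_cons.2 ⟨c23, (List.forall_mem_cons.2 ⟨c24,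 (List.forall_mem_cons.2 ⟨c25, (List.forall_mem_cons.2 ⟨c26, (List.forall_mem_cons.2 ⟨c27, (List.forall_mem_cons.2 ⟨c28, (List.forall_mem_cons.2 ⟨c29, (List.forall_mem_cons.2 ⟨c30, (List.forall_mem_cons.2 ⟨c31, (List.forall_mem_cons.2 ⟨c32, (List.forall_mem_cons.2 ⟨c33, (List.forall_mem_cons.2 ⟨c34, (List.forall_mem_cons.2 ⟨c35, (List.forall_mem_cons.2 ⟨c36, (List.forall_mem_cons.2 ⟨c37, (List.forall_mem_cons.2 ⟨c38, (List.forall_mem_cons.2 ⟨c39, (List.forall_mem_cons.2 ⟨c40, (List.forall_mem_cons.2 ⟨c41, (List.forall_mem_cons.2 ⟨c42, (List.forall_mem_cons.2 ⟨c43, (List.forall_mem_cons.2 ⟨c44, (List.forall_mem_cons.2 ⟨c45, (List.forall_mem_cons.2 ⟨c46, (List.forall_mem_cons.2 ⟨c47, (List.forall_mem_cons.2 ⟨c48, (List.forall_mem_cons.2 ⟨c49, (List.forall_mem_cons.2 ⟨c50, (List.forall_mem_cons.2 ⟨c51, (List.forall_mem_cons.2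 ⟨c52, (List.forall_mem_cons.2 ⟨c53, (List.forall_mem_cons.2 ⟨c54, (List.forall_mem_cons.2 ⟨c55, (List.forall_mem_cons.2 ⟨c56, (List.forall_mem_cons.2 ⟨c57, (List.forall_mem_cons.2 ⟨c58, (List.forall_mem_cons.2 ⟨c59, (List.forall_mem_cons.2 ⟨c60, (List.forall_mem_cons.2 ⟨c61, (List.forall_mem_cons.2 ⟨c62, (List.forall_mem_cons.2 ⟨c63, (List.forall_mem_cons.2 ⟨c64, (List.forall_mem_cons.2 ⟨c65, (List.forall_mem_cons.2 ⟨c66, (List.forall_mem_cons.2 ⟨c67, (List.forall_mem_cons.2 ⟨c68, (List.forall_mem_cons.2 ⟨c69, (List.forall_mem_cons.2 ⟨c70, (List.forall_mem_cons.2 ⟨c71, (List.forall_mem_cons.2 ⟨c72, (List.forall_mem_cons.2 ⟨c73, (List.forall_mem_cons.2 ⟨c74, (List.forall_mem_cons.2 ⟨c75, (List.forall_mem_cons.2 ⟨c76, (List.forall_mem_cons.2 ⟨c77, (List.forall_mem_cons.2 ⟨c78, (List.forall_mem_cons.2 ⟨c79, (List.forall_mem_cons.2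 ⟨c80, (List.forall_mem_cons.2 ⟨c81, (List.forall_mem_cons.2 ⟨c82, (List.forall_mem_cons.2 ⟨c83, (List.forall_mem_cons.2 ⟨c84, (List.forall_mem_cons.2 ⟨c85, (List.forall_mem_cons.2 ⟨c86, (List.forall_mem_cons.2 ⟨c87, (List.forall_mem_cons.2 ⟨c88, (List.forall_mem_cons.2 ⟨c89, (List.forall_mem_cons.2 ⟨c90, (List.forall_mem_cons.2 ⟨c91, (List.forall_mem_cons.2 ⟨c92, (List.forall_mem_cons.2 ⟨c93, (List.forall_mem_cons.2 ⟨c94, (List.forall_mem_cons.2 ⟨c95, (List.forall_mem_cons.2 ⟨c96, (List.forall_mem_cons.2 ⟨c97, (List.forall_mem_cons.2 ⟨c98, (List.forall_mem_cons.2 ⟨c99, (List.forall_mem_cons.2 ⟨c100, (List.forall_mem_cons.2 ⟨c101, (List.forall_mem_cons.2 ⟨c102, (List.forall_mem_cons.2 ⟨c103, (List.forall_mem_cons.2 ⟨c104, (List.forall_mem_cons.2 ⟨c105, (List.forall_mem_cons.2 ⟨c106, (List.forall_mem_cons.2 ⟨c107, (List.forall_mem_cons.2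 ⟨c108, (List.forall_mem_cons.2 ⟨c109, (List.forall_mem_cons.2 ⟨c110, (List.forall_mem_cons.2 ⟨c111, (List.forall_mem_cons.2 ⟨c112, (List.forall_mem_cons.2 ⟨c113, (List.forall_mem_cons.2 ⟨c114, (List.forall_mem_cons.2 ⟨c115, (List.forall_mem_cons.2 ⟨c116, (List.forall_mem_cons.2 ⟨c117, (List.forall_mem_cons.2 ⟨c118, (List.forall_mem_cons.2 ⟨c119, (List.forall_mem_cons.2 ⟨c120, (List.forall_mem_cons.2 ⟨c121, (List.forall_mem_cons.2 ⟨c122, (List.forall_mem_cons.2 ⟨c123, (List.forall_mem_cons.2 ⟨c124, (List.forall_mem_cons.2 ⟨c125, (List.forall_mem_cons.2 ⟨c126, (List.forall_mem_cons.2 ⟨c127, (List.forall_mem_cons.2 ⟨c128, (List.forall_mem_cons.2 ⟨c129, (List.forall_mem_cons.2 ⟨c130, (List.forall_mem_cons.2 ⟨c131, (List.forall_mem_cons.2 ⟨c132, (List.forall_mem_cons.2 ⟨c133, (fun _ h => absurd h (by simp))⟩)⟩)⟩)⟩)⟩)⟩)⟩)⟩)⟩)⟩)⟩)⟩)⟩)⟩)⟩)⟩)⟩)⟩)⟩)⟩)⟩)⟩)⟩)⟩)⟩)⟩)⟩)⟩)⟩)⟩)⟩)⟩)⟩)⟩)⟩)⟩)⟩)⟩)⟩)⟩)⟩)⟩)⟩)⟩)⟩)⟩)⟩)⟩)⟩)⟩)⟩)⟩)⟩)⟩)⟩)⟩)⟩)⟩)⟩)⟩)⟩)⟩)⟩)⟩)⟩)⟩)⟩)⟩)⟩)⟩)⟩)⟩)⟩)⟩)⟩)⟩)⟩)⟩)⟩)⟩)⟩)⟩)⟩)⟩)⟩)⟩)⟩)⟩)⟩)⟩)⟩)⟩)⟩)⟩)⟩)⟩)⟩)⟩)⟩)⟩)⟩)⟩)⟩)⟩)⟩)⟩)⟩)⟩)⟩)⟩)⟩)⟩)⟩)⟩)⟩)⟩)⟩)⟩)⟩)⟩)⟩)⟩)⟩)⟩)⟩)⟩)⟩)⟩)⟩)⟩)⟩)⟩)⟩)⟩)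

theorem comm : ∀ s ∈ D.ws, ∀ w ∈ s, R24.word w * R24.word D.xw = R24.word D.xw * R24.word w := by
  exact (List.forall_mem_cons.2 ⟨(List.forall_mem_cons.2 ⟨R24.comm_rep 1, (fun _ h => absurd h (by simp))⟩), (List.forall_mem_cons.2 ⟨(List.forall_mem_cons.2 ⟨R24.comm_rep 2, (fun _ h => absurd h (by simp))⟩), (List.forall_mem_cons.2 ⟨(List.forall_mem_cons.2 ⟨R24.comm_rep 4, (fun _ h => absurd h (by simp))⟩), (List.forall_mem_cons.2 ⟨(List.forall_mem_cons.2 ⟨R24.comm_rep 8, (fun _ h => absurd h (by simp))⟩), (List.forall_mem_cons.2 ⟨(List.forall_mem_cons.2 ⟨R24.comm_of comm_y0a, (fun _ h => absurd h (by simp))⟩), (List.forall_mem_cons.2 ⟨(List.forall_mem_cons.2 ⟨R24.comm_of comm_y1a, (fun _ h => absurd h (by simp))⟩), (fun _ h => absurd h (by simp))⟩)⟩)⟩)⟩)⟩)⟩)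

theorem ok : D.Ok where
  hu := hu
  hI := List.all_eq_true.1 hI
  hZ := List.all_eq_true.1 hZ
  hit := hit
  cert := cert
  covering := R24.cv_of covering
  gen := gen
  comm := comm

/-- **The order of the centralizer of `x` is at most 64.** -/
theorem card_le : Nat.card (Subgroup.centralizer ({D.x} : Set _)) ≤ 64 :=
  ok.card_le

end Cfsg.Agent.H153.Dl.A24
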